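import Groth.Agent.ResProp.EF.K83.FinDatum
import Mathlib.RingTheory.Flat.Stability
import Mathlib.RingTheory.Flat.Basic

/-!
# The equalizer of two maps of comodule algebras (G1, chain `ρ_R → ρ_D → ρ_B`, part (3))
-/

set_option autoImplicit false
universe u

open TensorProduct Groth.Agent.ResProp.EF.K83

noncomputable section

namespace Groth.Agent.ResProp.EF.K748

variable {k O : Type u} [CommRing k] [CommRing O] [HopfAlgebra k O]

/-- a subring which is mapped into `B0 ⊗ O` by the coaction is a comodule algebra -/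
theorem exists_coAlg_of_mem [Module.Flat k O] {B0 D0 : Type u} [CommRing B0] [Algebra k B0] [CommRing D0] [Algebra k D0]
    (f : B0 →ₐ[k] D0) (hinj : Function.Injective f) (cD : CoAlg k O D0)
    (h : ∀ b, cD.ρ (f b) ∈ (Algebra.TensorProduct.map f (AlgHom.id k O)).range) :
    ∃ cB : CoAlg k O B0, ∀ x, cD.ρ (f x) = Algebra.TensorProduct.map f (AlgHom.id k O) (cB.ρ x) := by
  let F : B0 ⊗[k] O →ₐ[k] D0 ⊗[k] O := Algebra.TensorProduct.map f (AlgHom.id k O)
  have hF : Function.Injective F := Module.Flat.rTensor_preserves_injective_linearMap (M := O) f.toLinearMap hinj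
  let ρ : B0 →ₐ[k] B0 ⊗[k] O := (AlgEquiv.ofInjective F hF).symm.toAlgHom.comp ((cD.ρ.comp f).codRestrict F.range h)
  have hρ : ∀ x, F (ρ x) = cD.ρ (f x) := by
    intro x
    have := (AlgEquiv.ofInjective F hF).apply_symm_apply ((cD.ρ.comp f).codRestrict F.range h x)
    exact congrArg Subtype.val this
  refine ⟨⟨ρ, ?_, ?_⟩, fun x => (hρ x).symm⟩
  · intro x
    have hG : Function.Injective (f.toLinearMap.rTensor (O ⊗[k] O)) :=
      Module.Flat.rTensor_preserves_injective_linearMap (M := O ⊗[k] O) f.toLinearMap hinj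
    apply hG
    have h1 := cD.coassoc (f x)
    rw [← hρ] at h1
    have h2 : ∀ z : B0 ⊗[k] O, f.toLinearMap.rTensor (O ⊗[k] O) (TensorProduct.assoc k B0 O O
        (ρ.toLinearMap.rTensor O z)) = TensorProduct.assoc k D0 O O (cD.ρ.toLinearMap.rTensor O (F z)) := by
      intro z
      induction z with
      | zero => simp
      | add x y hx hy => simp only [map_add, hx, hy]
      | tmul b o =>
        change f.toLinearMap.rTensor (O ⊗[k] O) (TensorProduct.assoc k B0 O O (ρ b ⊗ₜ o)) =
          TensorProduct.assoc k D0 O O (cD.ρ (f b) ⊗ₜ o)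
        rw [← hρ b]
        generalize ρ b = y
        induction y with
        | zero => simp
        | add x y hx hy => simp only [TensorProduct.add_tmul, map_add, hx, hy]
        | tmul b' o' => rfl
    have h3 : ∀ z : B0 ⊗[k] O, f.toLinearMap.rTensor (O ⊗[k] O) ((Coalgebra.comul (R := k) (A := O)).lTensor B0 z) =
        (Coalgebra.comul (R := k) (A := O)).lTensor D0 (F z) := by
      intro z
      induction z with
      | zero => simp
      | add x y hx hy => simp only [map_add, hx, hy]
      | tmul b o => rfl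
    rw [h2, h3]
    exact h1
  · intro x
    have hG : Function.Injective (f.toLinearMap.rTensor k) :=
      Module.Flat.rTensor_preserves_injective_linearMap (M := k) f.toLinearMap hinj
    apply hG
    have h1 := cD.counit (f x)
    rw [← hρ] at h1
    have h3 : ∀ z : B0 ⊗[k] O, f.toLinearMap.rTensor k ((Coalgebra.counit (R := k) (A := O)).lTensor B0 z) =
        (Coalgebra.counit (R := k) (A := O)).lTensor D0 (F z) := by
      intro z
      induction z with
      | zero => simp
      | add x y hx hy => simp only [map_add, hx, hy]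
      | tmul b o => rfl
    rw [h3]
    exact h1

/-- **(3)** the equalizer of two maps `σ τ : D0 → R0` with `(σ ⊗ 1) ρ = (τ ⊗ 1) ρ` on it -/
theorem exists_coAlg_of_eq [Module.Flat k O] {B0 D0 R0 : Type u} [CommRing B0] [Algebra k B0] [CommRing D0]
    [Algebra k D0] [CommRing R0] [Algebra k R0] (f : B0 →ₐ[k] D0) (hinj : Function.Injective f)
    (σ τ : D0 →ₐ[k] R0) (heq : ∀ x, σ x = τ x → x ∈ f.range) (cD : CoAlg k O D0)
    (h : ∀ b, Algebra.TensorProduct.map σ (AlgHom.id k O) (cD.ρ (f b)) =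
      Algebra.TensorProduct.map τ (AlgHom.id k O) (cD.ρ (f b))) (hf : ∀ b, σ (f b) = τ (f b)) :
    ∃ cB : CoAlg k O B0, ∀ x, cD.ρ (f x) = Algebra.TensorProduct.map f (AlgHom.id k O) (cB.ρ x) := by
  refine exists_coAlg_of_mem f hinj cD fun b => ?_
  have hex : Function.Exact f.toLinearMap (σ.toLinearMap - τ.toLinearMap) := by
    intro x
    constructor
    · intro hx
      exact heq x (sub_eq_zero.1 hx)
    · rintro ⟨y, rfl⟩
      exact sub_eq_zero.2 (hf y)
  have hex2 := Module.Flat.rTensor_exact O hex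
  have h1 : (σ.toLinearMap - τ.toLinearMap).rTensor O (cD.ρ (f b)) = 0 := by
    rw [LinearMap.rTensor_sub, LinearMap.sub_apply, sub_eq_zero]
    exact h b
  obtain ⟨y, hy⟩ := (hex2 _).1 h1
  exact ⟨y, hy⟩

/-- **(3)**, version with a coaction on `R0` -/
theorem exists_coAlg_of_eq' [Module.Flat k O] {B0 D0 R0 : Type u} [CommRing B0] [Algebra k B0] [CommRing D0]
    [Algebra k D0] [CommRing R0] [Algebra k R0] (f : B0 →ₐ[k] D0) (hinj : Function.Injective f)
    (σ τ : D0 →ₐ[k] R0) (heq : ∀ x, σ x = τ x → x ∈ f.range) (cD : CoAlg k O D0)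
    (ρ1 : R0 →ₐ[k] R0 ⊗[k] O) (hσ : ∀ x, ρ1 (σ x) = Algebra.TensorProduct.map σ (AlgHom.id k O) (cD.ρ x))
    (hτ : ∀ x, ρ1 (τ x) = Algebra.TensorProduct.map τ (AlgHom.id k O) (cD.ρ x)) (hf : ∀ b, σ (f b) = τ (f b)) :
    ∃ cB : CoAlg k O B0, ∀ x, cD.ρ (f x) = Algebra.TensorProduct.map f (AlgHom.id k O) (cB.ρ x) :=
  exists_coAlg_of_eq f hinj σ τ heq cD (fun b => by rw [← hσ, ← hτ, hf]) hf

end Groth.Agent.ResProp.EF.K748
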