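import Groth.Agent.ResProp.EF.K83.FinDatum
import Mathlib.RingTheory.HopfAlgebra.Convolution
import Mathlib.RingTheory.Spectrum.Prime.Topology
import Mathlib.RingTheory.LocalRing.ResidueField.Ideal
import Mathlib.LinearAlgebra.TensorProduct.Basis
import Mathlib.RingTheory.Flat.FaithfullyFlat.Basic

/-!
# Points of comodule algebras; stable open subsets (G1, chain `ρ_R → ρ_D → ρ_B`, part (4))

`act c w g` : the point `w : D → K` moved by `g : O → K`.  `stable_pts` : let `f : B0 → D0` be a map of comodule
algebras over a commutative Hopf algebra, `t j ∈ D0` semi-invariant of invertible weight, `V ⊆ Spec B0` the image of the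
union of the `D(t j)`.  Then `ρ⁻¹ V ⊆ V × G` in `Spec (B0 ⊗ O)`.
-/

set_option autoImplicit false
universe u

open TensorProduct Groth.Agent.ResProp.EF.K83

noncomputable section

namespace Groth.Agent.ResProp.EF.K748

variable {k O : Type u} [CommRing k] [CommRing O] [HopfAlgebra k O]

section act

variable {D K : Type u} [CommRing D] [Algebra k D] [CommRing K] [Algebra k K]

/-- the point `w` moved by `g` -/
def act (c : CoAlg k O D) (w : D →ₐ[k] K) (g : O →ₐ[k] K) : D →ₐ[k] K :=
  (Algebra.TensorProduct.productMap w g).comp c.ρ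

theorem act_apply (c : CoAlg k O D) (w : D →ₐ[k] K) (g : O →ₐ[k] K) (x : D) :
    act c w g x = Algebra.TensorProduct.productMap w g (c.ρ x) := rfl

/-- the inverse of a point of the group -/
def inv (g : O →ₐ[k] K) : O →ₐ[k] K := g.comp (HopfAlgebra.antipodeAlgHom k O)

theorem act_act_inv (c : CoAlg k O D) (w : D →ₐ[k] K) (g : O →ₐ[k] K) : act c (act c w g) (inv g) = w := by
  -- `Φ (d ⊗ (a ⊗ b)) = w d * (g a * g (S b))`
  let Φ : D ⊗[k] (O ⊗[k] O) →ₗ[k] K := LinearMap.mul' k K ∘ₗ
    TensorProduct.map w.toLinearMap (LinearMap.mul' k K ∘ₗ TensorProduct.map g.toLinearMap (inv g).toLinearMap)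
  have h1 : ∀ z : D ⊗[k] O, Algebra.TensorProduct.productMap (act c w g) (inv g) z =
      Φ (TensorProduct.assoc k D O O (c.ρ.toLinearMap.rTensor O z)) := by
    intro z
    induction z with
    | zero => simp
    | add x y hx hy => rw [map_add, map_add, map_add, map_add, hx, hy]
    | tmul d b =>
      rw [Algebra.TensorProduct.productMap_apply_tmul, act_apply, LinearMap.rTensor_tmul]
      change _ = Φ (TensorProduct.assoc k D O O (c.ρ d ⊗ₜ b))
      generalize c.ρ d = y
      induction y with
      | zero => simp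
      | add x y hx hy => rw [map_add, add_mul, hx, hy, TensorProduct.add_tmul, map_add, map_add]
      | tmul d' a =>
        rw [TensorProduct.assoc_tmul, Algebra.TensorProduct.productMap_apply_tmul]
        change _ = w d' * (g a * inv g b)
        ring
  have h2 : ∀ z : D ⊗[k] O, Φ ((Coalgebra.comul (R := k) (A := O)).lTensor D z) =
      (LinearMap.mul' k K ∘ₗ TensorProduct.map w.toLinearMap (Algebra.linearMap k K))
        ((Coalgebra.counit (R := k) (A := O)).lTensor D z) := by
    intro z
    induction z with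
    | zero => simp
    | add x y hx hy => rw [map_add, map_add, map_add, map_add, hx, hy]
    | tmul d b =>
      rw [LinearMap.lTensor_tmul, LinearMap.lTensor_tmul]
      change w d * (LinearMap.mul' k K ∘ₗ TensorProduct.map g.toLinearMap (inv g).toLinearMap)
        (Coalgebra.comul b) = w d * algebraMap k K (Coalgebra.counit b)
      congr 1
      have h3 : (LinearMap.mul' k K ∘ₗ TensorProduct.map g.toLinearMap (inv g).toLinearMap) (Coalgebra.comul b) =
          g (LinearMap.mul' k O ((HopfAlgebra.antipode k (A := O)).lTensor O (Coalgebra.comul b))) := by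
        generalize (Coalgebra.comul (R := k) b) = y
        induction y with
        | zero => simp
        | add x y hx hy => rw [map_add, map_add, map_add, map_add, hx, hy]
        | tmul a b =>
          rw [LinearMap.lTensor_tmul, LinearMap.mul'_apply, map_mul]
          rfl
      rw [h3, HopfAlgebra.mul_antipode_lTensor_comul_apply]
      exact g.commutes _
  ext x
  rw [act_apply, h1, c.coassoc, h2, c.counit]
  change w x * algebraMap k K 1 = w x
  rw [map_one, mul_one]

/-- naturality in the comodule algebra -/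
theorem act_comp {B : Type u} [CommRing B] [Algebra k B] (b : CoAlg k O B) (c : CoAlg k O D) (f : B →ₐ[k] D)
    (hf : ∀ x, c.ρ (f x) = Algebra.TensorProduct.map f (AlgHom.id k O) (b.ρ x)) (w : D →ₐ[k] K) (g : O →ₐ[k] K) :
    (act c w g).comp f = act b (w.comp f) g := by
  ext x
  change act c w g (f x) = _
  rw [act_apply, act_apply, hf]
  generalize b.ρ x = y
  induction y with
  | zero => simp
  | add x y hx hy => rw [map_add, map_add, map_add, hx, hy]
  | tmul a b =>
    rw [Algebra.TensorProduct.map_tmul, Algebra.TensorProduct.productMap_apply_tmul,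
      Algebra.TensorProduct.productMap_apply_tmul]
    rfl

theorem act_semi (c : CoAlg k O D) (w : D →ₐ[k] K) (g : O →ₐ[k] K) (t : D) (χ : O) (ht : c.ρ t = t ⊗ₜ χ) :
    act c w g t = w t * g χ := by
  rw [act_apply, ht, Algebra.TensorProduct.productMap_apply_tmul]

end act

/-- two points in the same fibre can be moved to the same field -/
theorem exists_field {B D K : Type u} [CommRing B] [CommRing D] [Field K] (f : B →+* D) (y : B →+* K)
    (q : PrimeSpectrum D) (h : (PrimeSpectrum.comap f q).asIdeal = RingHom.ker y) :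
    ∃ (K' : Type u) (_ : Field K') (i : K →+* K') (w : D →+* K'), w.comp f = i.comp y ∧
      RingHom.ker w = q.asIdeal := by
  let P : Ideal B := RingHom.ker y
  have hP : P.IsPrime := RingHom.ker_isPrime y
  have hq : q.asIdeal.IsPrime := q.2
  let L := q.asIdeal.ResidueField
  let F := P.ResidueField
  let a : F →+* K := Ideal.ResidueField.lift P y (by rfl) (by
    intro x hx
    have : y x ≠ 0 := fun h0 => hx (RingHom.mem_ker.2 h0)
    exact (isUnit_iff_ne_zero.2 this))
  let b : F →+* L := Ideal.ResidueField.map P q.asIdeal f h.symm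
  let := a.toAlgebra
  let := b.toAlgebra
  have : Nontrivial (K ⊗[F] L) := inferInstance
  obtain ⟨m, hm⟩ := Ideal.exists_maximal (K ⊗[F] L)
  let K' := (K ⊗[F] L) ⧸ m
  let fK' : Field K' := Ideal.Quotient.field m
  let i : K →+* K' := (Ideal.Quotient.mk m).comp (Algebra.TensorProduct.includeLeft (R := F) (S := F) (A := K) (B := L)).toRingHom
  let j : L →+* K' := (Ideal.Quotient.mk m).comp (Algebra.TensorProduct.includeRight (R := F) (A := K) (B := L)).toRingHom
  refine ⟨K', fK', i, j.comp (algebraMap D L), ?_, ?_⟩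
  · ext x
    have e1 : j (algebraMap D L (f x)) = j (algebraMap F L (algebraMap B F x)) := by
      congr 1
      exact (Ideal.ResidueField.map_algebraMap P q.asIdeal f _ x).symm
    have e2 : i (y x) = i (algebraMap F K (algebraMap B F x)) := by
      congr 1
      exact (Ideal.ResidueField.lift_algebraMap P y _ _ x).symm
    change j (algebraMap D L (f x)) = i (y x)
    rw [e1, e2]
    change Ideal.Quotient.mk m (1 ⊗ₜ algebraMap F L (algebraMap B F x)) = Ideal.Quotient.mk m (algebraMap F K (algebraMap B F x) ⊗ₜ 1)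
    congr 1
    generalize algebraMap B F x = z
    rw [Algebra.algebraMap_eq_smul_one, Algebra.algebraMap_eq_smul_one, TensorProduct.tmul_smul, TensorProduct.smul_tmul']
  · rw [← RingHom.comap_ker, (RingHom.injective_iff_ker_eq_bot j).1 j.injective, ← RingHom.ker_eq_comap_bot]
    exact Ideal.ker_algebraMap_residueField _

section stable

variable {B0 D0 : Type u} [CommRing B0] [Algebra k B0] [CommRing D0] [Algebra k D0]

/-- **(4) on points.** `f : B0 → D0` a map of comodule algebras, `t j` semi-invariants of `D0` of invertible weight,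
`V ⊆ Spec B0` the image of `⋃ D(t j)`.  Then `V` is stable. -/
theorem stable_pts (cB : CoAlg k O B0) (cD : CoAlg k O D0) (f : B0 →ₐ[k] D0)
    (hf : ∀ x, cD.ρ (f x) = Algebra.TensorProduct.map f (AlgHom.id k O) (cB.ρ x))
    {ι : Type*} (t : ι → D0) (χ : ι → O) (hχ : ∀ j, IsUnit (χ j)) (ht : ∀ j, cD.ρ (t j) = t j ⊗ₜ χ j)
    (V : Set (PrimeSpectrum B0))
    (hA : ∀ (q : PrimeSpectrum D0) (j : ι), t j ∉ q.asIdeal → PrimeSpectrum.comap f.toRingHom q ∈ V)
    (hB : ∀ v ∈ V, ∃ (q : PrimeSpectrum D0) (j : ι), t j ∉ q.asIdeal ∧ PrimeSpectrum.comap f.toRingHom q = v)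
    (P : PrimeSpectrum (B0 ⊗[k] O)) (hP : PrimeSpectrum.comap cB.ρ.toRingHom P ∈ V) :
    PrimeSpectrum.comap (Algebra.TensorProduct.includeLeft (R := k) (S := k) (A := B0) (B := O)).toRingHom P ∈ V := by
  have hPp : P.asIdeal.IsPrime := P.2
  let K := P.asIdeal.ResidueField
  let π : B0 ⊗[k] O →ₐ[k] K := IsScalarTower.toAlgHom k (B0 ⊗[k] O) K
  have hπ : RingHom.ker π.toRingHom = P.asIdeal := Ideal.ker_algebraMap_residueField _
  let z : B0 →ₐ[k] K := π.comp Algebra.TensorProduct.includeLeft
  let g : O →ₐ[k] K := π.comp Algebra.TensorProduct.includeRight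
  have hzg : Algebra.TensorProduct.productMap z g = π := by
    ext x
    · simp [z]
    · simp [g]
  let y : B0 →ₐ[k] K := act cB z g
  have hy : y = π.comp cB.ρ := by
    change (Algebra.TensorProduct.productMap z g).comp cB.ρ = _
    rw [hzg]
  obtain ⟨q, j, hq, hqv⟩ := hB _ hP
  have hqy : (PrimeSpectrum.comap f.toRingHom q).asIdeal = RingHom.ker y.toRingHom := by
    rw [hqv, hy]
    change Ideal.comap _ P.asIdeal = RingHom.ker (π.toRingHom.comp cB.ρ.toRingHom)
    rw [← RingHom.comap_ker, hπ]
  obtain ⟨K', fK', i, w, hw, hwq⟩ := exists_field f.toRingHom y.toRingHom q hqy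
  let : Algebra k K' := (i.comp (algebraMap k K)).toAlgebra
  let i' : K →ₐ[k] K' := { i with commutes' := fun _ => rfl }
  let w' : D0 →ₐ[k] K' := { w with
    commutes' := fun r => by
      have h1 := congrArg (fun φ => φ (algebraMap k B0 r)) hw
      have h2 : f.toRingHom (algebraMap k B0 r) = algebraMap k D0 r := f.commutes r
      have h3 : y.toRingHom (algebraMap k B0 r) = algebraMap k K r := y.commutes r
      change w (f.toRingHom (algebraMap k B0 r)) = i (y.toRingHom (algebraMap k B0 r)) at h1
      rw [h2, h3] at h1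
      exact h1 }
  have hwy : w'.comp f = i'.comp y := AlgHom.ext fun x => congrArg (fun φ => φ x) hw
  let g' : O →ₐ[k] K' := i'.comp g
  let w2 : D0 →ₐ[k] K' := act cD w' (inv g')
  have hw2 : w2.comp f = i'.comp z := by
    rw [act_comp cB cD f hf, hwy]
    have h1 : i'.comp y = act cB (i'.comp z) g' := by
      change i'.comp ((Algebra.TensorProduct.productMap z g).comp cB.ρ) =
        (Algebra.TensorProduct.productMap (i'.comp z) g').comp cB.ρ
      rw [← AlgHom.comp_assoc]
      congr 1
      ext x
      · simp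
      · simp [g']
    rw [h1, act_act_inv]
  have hne : w2 (t j) ≠ 0 := by
    rw [act_semi cD w' (inv g') (t j) (χ j) (ht j)]
    refine mul_ne_zero ?_ (((hχ j).map (inv g')).ne_zero)
    intro h0
    apply hq
    rw [← hwq]
    exact RingHom.mem_ker.2 h0
  have hk : (RingHom.ker w2.toRingHom).IsPrime := RingHom.ker_isPrime _
  have h3 := hA ⟨RingHom.ker w2.toRingHom, hk⟩ j (fun h => hne (RingHom.mem_ker.1 h))
  have h4 : PrimeSpectrum.comap f.toRingHom ⟨RingHom.ker w2.toRingHom, hk⟩ =
      PrimeSpectrum.comap (Algebra.TensorProduct.includeLeft (R := k) (S := k) (A := B0) (B := O)).toRingHom P := by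
    apply PrimeSpectrum.ext
    change Ideal.comap f.toRingHom (RingHom.ker w2.toRingHom) = Ideal.comap _ P.asIdeal
    rw [RingHom.comap_ker, ← hπ, RingHom.comap_ker]
    have h5 : w2.toRingHom.comp f.toRingHom = i.comp z.toRingHom := RingHom.ext fun x => congrArg (fun φ => φ x) hw2
    rw [h5, ← RingHom.comap_ker, (RingHom.injective_iff_ker_eq_bot i).1 i.injective, ← RingHom.ker_eq_comap_bot]
    rfl
  rw [← h4]
  exact h3

/-- `ρ (I) ⊆ √(I ⊗ O)` for `I` the ideal of the complement of the open set `V`. -/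
theorem rho_mem_radical (cB : CoAlg k O B0) (cD : CoAlg k O D0) (f : B0 →ₐ[k] D0)
    (hf : ∀ x, cD.ρ (f x) = Algebra.TensorProduct.map f (AlgHom.id k O) (cB.ρ x))
    {ι : Type*} (t : ι → D0) (χ : ι → O) (hχ : ∀ j, IsUnit (χ j)) (ht : ∀ j, cD.ρ (t j) = t j ⊗ₜ χ j)
    (V : Set (PrimeSpectrum B0)) (hV : IsOpen V)
    (hA : ∀ (q : PrimeSpectrum D0) (j : ι), t j ∉ q.asIdeal → PrimeSpectrum.comap f.toRingHom q ∈ V)
    (hB : ∀ v ∈ V, ∃ (q : PrimeSpectrum D0) (j : ι), t j ∉ q.asIdeal ∧ PrimeSpectrum.comap f.toRingHom q = v)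
    (φ : B0) (hφ : φ ∈ PrimeSpectrum.vanishingIdeal Vᶜ) :
    cB.ρ φ ∈ ((PrimeSpectrum.vanishingIdeal Vᶜ).map
      (Algebra.TensorProduct.includeLeft (R := k) (S := k) (A := B0) (B := O))).radical := by
  rw [Ideal.radical_eq_sInf, Ideal.mem_sInf]
  rintro P ⟨hle, hP⟩
  by_contra hn
  have h1 : PrimeSpectrum.comap cB.ρ.toRingHom ⟨P, hP⟩ ∈ V := by
    by_contra hv
    exact hn ((PrimeSpectrum.mem_vanishingIdeal _ _).1 hφ _ hv)
  have h2 := stable_pts cB cD f hf t χ hχ ht V hA hB ⟨P, hP⟩ h1
  have h3 : PrimeSpectrum.comap (Algebra.TensorProduct.includeLeft (R := k) (S := k) (A := B0) (B := O)).toRingHom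
      ⟨P, hP⟩ ∈ PrimeSpectrum.zeroLocus (PrimeSpectrum.vanishingIdeal Vᶜ : Set B0) := by
    rw [PrimeSpectrum.mem_zeroLocus]
    intro x hx
    exact hle (Ideal.mem_map_of_mem _ hx)
  rw [PrimeSpectrum.zeroLocus_vanishingIdeal_eq_closure, hV.isClosed_compl.closure_eq] at h3
  exact h3 h2

end stable

end Groth.Agent.ResProp.EF.K748
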