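import Groth.Agent.ResProp.EF.K478.SecBC
import Mathlib.AlgebraicGeometry.Morphisms.QuasiSeparated
import Mathlib.AlgebraicGeometry.QuasiAffine

/-!
# The ring of sections over `⋃ D(s i)` is 478's `IsSec`
-/

set_option autoImplicit false
universe u

open CategoryTheory CategoryTheory.Limits AlgebraicGeometry TopologicalSpace Opposite
open Groth.Agent.ResProp.EF.K478

namespace Groth.Agent.ResProp.EF.K748

/-- compatible families over a cover by basic open subsets -/
theorem sheafy_of_cover {ι : Type*} (E : Scheme.{u}) (t : ι → Γ(E, ⊤)) (h : ∀ x : E, ∃ i, x ∈ E.basicOpen (t i)) :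
    Sheafy t := by
  let U : ι → E.Opens := fun i => E.basicOpen (t i)
  have hcov : (⊤ : E.Opens) ≤ iSup U := by
    intro x _
    obtain ⟨i, hi⟩ := h x
    exact Opens.mem_iSup.2 ⟨i, hi⟩
  have hunit : ∀ i, IsUnit (E.presheaf.map (homOfLE (le_top : U i ≤ ⊤)).op (t i)) := fun i =>
    RingedSpace.isUnit_res_basicOpen E.toRingedSpace (t i)
  have hext : ∀ x y : Γ(E, ⊤), (∀ i, E.presheaf.map (homOfLE (le_top : U i ≤ ⊤)).op x =
      E.presheaf.map (homOfLE (le_top : U i ≤ ⊤)).op y) → x = y := by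
    intro x y hxy
    exact E.sheaf.eq_of_locally_eq' U ⊤ (fun i => homOfLE le_top) hcov x y hxy
  refine ⟨fun n x hx => ?_, fun n m hm => ?_⟩
  · apply hext
    intro i
    have h1 := congrArg (E.presheaf.map (homOfLE (le_top : U i ≤ ⊤)).op) (hx i)
    rw [map_mul, map_pow, map_zero] at h1
    rw [map_zero]
    exact ((hunit i).pow n).mul_right_eq_zero.1 h1
  · choose v hv using fun i => (hunit i).exists_right_inv
    let sf : ∀ i, Γ(E, U i) := fun i => E.presheaf.map (homOfLE (le_top : U i ≤ ⊤)).op (m i) * v i ^ n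
    have hres : ∀ {V V' : E.Opens} (a : V ≤ V') (b : V' ≤ ⊤) (x : Γ(E, ⊤)),
        E.presheaf.map (homOfLE a).op (E.presheaf.map (homOfLE b).op x) = E.presheaf.map (homOfLE le_top).op x := by
      intro V V' a b x
      rw [← CommRingCat.comp_apply, ← Functor.map_comp]
      rfl
    obtain ⟨e, he, -⟩ : ∃ e : Γ(E, ⊤), (∀ i, E.presheaf.map (homOfLE (le_top : U i ≤ ⊤)).op e = sf i) ∧ _ :=
        E.sheaf.existsUnique_gluing' U ⊤ (fun i => homOfLE le_top) hcov sf (by
      intro i j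
      change E.presheaf.map (homOfLE (inf_le_left : U i ⊓ U j ≤ U i)).op (sf i) =
        E.presheaf.map (homOfLE (inf_le_right : U i ⊓ U j ≤ U j)).op (sf j)
      have h1 := congrArg (E.presheaf.map (homOfLE (le_top : U i ⊓ U j ≤ ⊤)).op) (hm i j)
      have hi := congrArg (E.presheaf.map (homOfLE (inf_le_left : U i ⊓ U j ≤ U i)).op) (hv i)
      have hj := congrArg (E.presheaf.map (homOfLE (inf_le_right : U i ⊓ U j ≤ U j)).op) (hv j)
      rw [map_mul, hres, map_one] at hi hj
      rw [map_mul, map_mul, map_pow, map_pow] at h1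
      simp only [sf, map_mul, map_pow, hres]
      generalize E.presheaf.map (homOfLE (inf_le_left : U i ⊓ U j ≤ U i)).op (v i) = vi at hi ⊢
      generalize E.presheaf.map (homOfLE (inf_le_right : U i ⊓ U j ≤ U j)).op (v j) = vj at hj ⊢
      generalize E.presheaf.map (homOfLE (le_top : U i ⊓ U j ≤ ⊤)).op (t i) = ti at hi h1 ⊢
      generalize E.presheaf.map (homOfLE (le_top : U i ⊓ U j ≤ ⊤)).op (t j) = tj at hj h1 ⊢
      generalize E.presheaf.map (homOfLE (le_top : U i ⊓ U j ≤ ⊤)).op (m i) = mi at h1 ⊢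
      generalize E.presheaf.map (homOfLE (le_top : U i ⊓ U j ≤ ⊤)).op (m j) = mj at h1 ⊢
      calc mi * vi ^ n = mi * vi ^ n * (tj * vj) ^ n := by rw [hj, one_pow, mul_one]
        _ = (tj ^ n * mi) * vi ^ n * vj ^ n := by ring
        _ = mj * vj ^ n * (ti * vi) ^ n := by rw [h1]; ring
        _ = mj * vj ^ n := by rw [hi, one_pow, mul_one])
    refine ⟨e, fun i => ?_⟩
    apply hext
    intro j
    have hej : E.presheaf.map (homOfLE (le_top : U j ≤ ⊤)).op e = sf j := he j
    have h1 := congrArg (E.presheaf.map (homOfLE (le_top : U j ≤ ⊤)).op) (hm i j)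
    have hj := hv j
    rw [map_mul, map_mul, map_pow, map_pow] at h1
    rw [map_mul, map_pow, hej]
    simp only [sf]
    generalize E.presheaf.map (homOfLE (le_top : U j ≤ ⊤)).op (t i) = ti at h1 ⊢
    generalize E.presheaf.map (homOfLE (le_top : U j ≤ ⊤)).op (t j) = tj at hj h1 ⊢
    generalize E.presheaf.map (homOfLE (le_top : U j ≤ ⊤)).op (m i) = mi at h1 ⊢
    generalize E.presheaf.map (homOfLE (le_top : U j ≤ ⊤)).op (m j) = mj at h1 ⊢
    calc ti ^ n * (mj * v j ^ n) = (ti ^ n * mj) * v j ^ n := by ring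
      _ = mi * (tj * v j) ^ n := by rw [← h1]; ring
      _ = mi := by rw [hj, one_pow, mul_one]

/-- restriction `R → Γ(W, ⊤)` (420's `toW`) -/
noncomputable abbrev toW' {R : Type u} [CommRing R] (W : (Spec (.of R)).Opens) : R →+* Γ(W.toScheme, ⊤) :=
  ((Scheme.ΓSpecIso (.of R)).inv ≫ W.ι.appTop).hom

/-- **sections over `W = ⋃ D(s i)`** -/
theorem isSec_open {R : Type u} [CommRing R] (W : (Spec (.of R)).Opens) {ι : Type*} [Finite ι] (s : ι → R)
    (hW : ∀ x : Spec (.of R), x ∈ W ↔ ∃ i, s i ∉ x.asIdeal) : IsSec (toW' W) s := by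
  let X : Scheme.{u} := Spec (.of R)
  let E : Scheme.{u} := W.toScheme
  let j : E ⟶ X := W.ι
  let c0 : R →+* Γ(X, ⊤) := (Scheme.ΓSpecIso (.of R)).inv.hom
  have hc : ∀ r, toW' W r = j.appTop.hom (c0 r) := fun r => rfl
  have hc0 : Function.Injective c0 := by
    intro a b hab
    have h1 := congrArg (Scheme.ΓSpecIso (.of R)).hom.hom hab
    have h2 : ∀ r : R, (Scheme.ΓSpecIso (.of R)).hom.hom (c0 r) = r := fun r =>
      congrArg (fun ψ => ψ.hom r) (Scheme.ΓSpecIso (.of R)).inv_hom_id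
    rw [h2, h2] at h1
    exact h1
  have hbo : ∀ r : R, X.basicOpen (c0 r) = PrimeSpectrum.basicOpen r := fun r => basicOpen_eq_of_affine (R := .of R) r
  have hmem : ∀ (x : E) (r : R), x ∈ E.basicOpen (toW' W r) ↔ r ∉ (j x).asIdeal := by
    intro x r
    rw [hc]
    have h1 : E.basicOpen (j.appTop.hom (c0 r)) = j ⁻¹ᵁ X.basicOpen (c0 r) :=
      (Scheme.preimage_basicOpen_top j (c0 r)).symm
    rw [h1, hbo]
    exact Iff.rfl
  have hD : ∀ i, X.basicOpen (c0 (s i)) ≤ j.opensRange := by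
    intro i x hx
    rw [hbo] at hx
    have h1 : x ∈ W := (hW x).2 ⟨i, hx⟩
    rw [Scheme.Opens.opensRange_ι]
    exact h1
  have hcompW : IsCompact (W : Set X) := by
    have h1 : (W : Set X) = ⋃ i, (PrimeSpectrum.basicOpen (s i) : Set (PrimeSpectrum R)) := by
      refine Set.ext fun x => ?_
      refine (hW x).trans ?_
      exact (Set.mem_iUnion (s := fun i => (PrimeSpectrum.basicOpen (s i) : Set (PrimeSpectrum R)))).symm
    rw [h1]
    exact isCompact_iUnion fun i => PrimeSpectrum.isCompact_basicOpen (s i)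
  have hEc : CompactSpace E := isCompact_iff_compactSpace.1 hcompW
  have hEq : QuasiSeparatedSpace E := quasiSeparatedSpace_of_quasiSeparated j
  refine ⟨?_, ?_, ?_⟩
  · intro r hr i
    have hiso : IsIso (j.app (X.basicOpen (c0 (s i)))) := Scheme.Hom.isIso_app j _ (hD i)
    have hinj : Function.Injective (j.app (X.basicOpen (c0 (s i)))).hom :=
      ((ConcreteCategory.isIso_iff_bijective _).1 hiso).1
    have h1 : X.presheaf.map (homOfLE (X.basicOpen_le (c0 (s i)))).op (c0 r) = 0 := by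
      apply hinj
      rw [map_zero]
      have h2 := congrArg (fun ψ => ψ.hom (c0 r)) (j.naturality (homOfLE (X.basicOpen_le (c0 (s i)))).op)
      change (j.app (X.basicOpen (c0 (s i)))).hom ((X.presheaf.map (homOfLE (X.basicOpen_le (c0 (s i)))).op).hom (c0 r)) =
        (E.presheaf.map _).hom (j.appTop.hom (c0 r)) at h2
      rw [← hc, hr, map_zero] at h2
      exact h2
    have h3 := exists_of_res_zero_of_qcqs (X := X) (U := ⊤) (isAffineOpen_top X).isCompact isQuasiSeparated_univ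
      (f := c0 r) (s := c0 (s i)) h1
    obtain ⟨n, hn⟩ := h3
    refine ⟨n, hc0 ?_⟩
    rw [map_mul, map_pow, hn, map_zero]
  · intro d i
    have hiso : IsIso (j.app (X.basicOpen (c0 (s i)))) := Scheme.Hom.isIso_app j _ (hD i)
    have hsur : Function.Surjective (j.app (X.basicOpen (c0 (s i)))).hom :=
      ((ConcreteCategory.isIso_iff_bijective _).1 hiso).2
    have hV : j ⁻¹ᵁ X.basicOpen (c0 (s i)) = E.basicOpen (toW' W (s i)) := Scheme.preimage_basicOpen_top j (c0 (s i))
    obtain ⟨y, hy⟩ := hsur (E.presheaf.map (homOfLE (le_top : j ⁻¹ᵁ X.basicOpen (c0 (s i)) ≤ ⊤)).op d)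
    have hl : IsLocalization.Away (c0 (s i)) Γ(X, X.basicOpen (c0 (s i))) :=
      (isAffineOpen_top X).isLocalization_basicOpen (c0 (s i))
    obtain ⟨⟨r0, ⟨_, n, rfl⟩⟩, hr0⟩ := IsLocalization.surj (Submonoid.powers (c0 (s i))) y
    obtain ⟨r, rfl⟩ : ∃ r, c0 r = r0 := ⟨(Scheme.ΓSpecIso (.of R)).hom.hom r0,
      congrArg (fun ψ => ψ.hom r0) (Scheme.ΓSpecIso (.of R)).hom_inv_id⟩
    have h1 : y * X.presheaf.map (homOfLE (X.basicOpen_le (c0 (s i)))).op (c0 (s i) ^ n) =
        X.presheaf.map (homOfLE (X.basicOpen_le (c0 (s i)))).op (c0 r) := hr0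
    have hnat : ∀ x : Γ(X, ⊤), (j.app (X.basicOpen (c0 (s i)))).hom
        (X.presheaf.map (homOfLE (X.basicOpen_le (c0 (s i)))).op x) =
        E.presheaf.map (homOfLE (le_top : j ⁻¹ᵁ X.basicOpen (c0 (s i)) ≤ ⊤)).op (j.appTop.hom x) := fun x =>
      congrArg (fun ψ => ψ.hom x) (j.naturality (homOfLE (X.basicOpen_le (c0 (s i)))).op)
    have h2 := congrArg (j.app (X.basicOpen (c0 (s i)))).hom h1
    rw [map_mul, hy, hnat, hnat, map_pow, ← hc, ← hc, ← map_mul] at h2
    have h3 : ∀ V : E.Opens, V = E.basicOpen (toW' W (s i)) → ∀ a b : Γ(E, ⊤),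
        E.presheaf.map (homOfLE (le_top : V ≤ ⊤)).op a = E.presheaf.map (homOfLE (le_top : V ≤ ⊤)).op b →
        ∃ m : ℕ, toW' W (s i) ^ m * a = toW' W (s i) ^ m * b := by
      rintro V rfl a b hab
      exact exists_of_res_eq_of_qcqs_of_top hab
    obtain ⟨m, hm⟩ := h3 _ hV _ _ h2
    refine ⟨m + n, s i ^ m * r, ?_⟩
    rw [map_mul, map_pow, ← hm]
    ring
  · refine sheafy_of_cover E _ fun x => ?_
    obtain ⟨i, hi⟩ := (hW (j x)).1 x.2
    exact ⟨i, (hmem x (s i)).2 hi⟩

end Groth.Agent.ResProp.EF.K748
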